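import Groth.Agent.HurwitzAlg.Stalk
import Groth.Agent.HurwitzAlg.Global
import Mathlib

/-!
# Ramification indices over one point add up to at most the degree
-/

set_option autoImplicit false
set_option backward.isDefEq.respectTransparency false
set_option backward.isDefEq.respectTransparency.types false
set_option linter.style.haveILetI false

universe u

open CategoryTheory AlgebraicGeometry TopologicalSpace
open scoped nonZeroDivisors

namespace Groth.Agent.TwoBranch

open HurwitzAlg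

variable {X Y : Scheme.{u}} [IsIntegral X] [IsIntegral Y] [IsLocallyNoetherian X] [IsLocallyNoetherian Y]
  (f : X ⟶ Y) [IsFinite f]

theorem app_injective (e : f (genericPoint X) = genericPoint Y) {W : Y.Opens} (hη : genericPoint Y ∈ W) :
    Function.Injective (f.app W) := by
  have hηX : genericPoint X ∈ f ⁻¹ᵁ W := show f (genericPoint X) ∈ W by rw [e]; exact hη
  intro a b h
  have h1 := congrArg (fun t => X.presheaf.germ (f ⁻¹ᵁ W) (genericPoint X) hηX t) h
  rw [← Scheme.Hom.germ_stalkMap_apply, ← Scheme.Hom.germ_stalkMap_apply] at h1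
  have hinj : Function.Injective (Y.presheaf.stalkSpecializes (specializes_of_eq e) ≫ f.stalkMap (genericPoint X)) :=
    RingHom.injective (R := Y.functionField)
      (Y.presheaf.stalkSpecializes (specializes_of_eq e) ≫ f.stalkMap (genericPoint X)).hom
  haveI : Nonempty W := ⟨⟨_, hη⟩⟩
  apply germ_injective_of_isIntegral Y (genericPoint Y) (U := W) hη
  apply hinj
  simpa [TopCat.Presheaf.germ_stalkSpecializes_apply] using h1

theorem finite_functionField (e : f (genericPoint X) = genericPoint Y) :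
    letI := ((Y.presheaf.stalkSpecializes (specializes_of_eq e) ≫ f.stalkMap (genericPoint X)).hom).toAlgebra
    FiniteDimensional Y.functionField X.functionField := by
  letI := ((Y.presheaf.stalkSpecializes (specializes_of_eq e) ≫ f.stalkMap (genericPoint X)).hom).toAlgebra
  obtain ⟨_, ⟨W, hW, rfl⟩, hηY, -⟩ :=
    Y.isBasis_affineOpens.exists_subset_of_mem_open (Set.mem_univ (genericPoint Y)) isOpen_univ
  have hηX : genericPoint X ∈ f ⁻¹ᵁ W := show f (genericPoint X) ∈ W by rw [e]; exact hηY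
  haveI : Nonempty W := ⟨⟨_, hηY⟩⟩
  haveI : Nonempty (f ⁻¹ᵁ W) := ⟨⟨_, hηX⟩⟩
  have hV := hW.preimage f
  letI a2 : Algebra Γ(Y, W) Γ(X, f ⁻¹ᵁ W) := (f.app W).hom.toAlgebra
  haveI : Module.Finite Γ(Y, W) Γ(X, f ⁻¹ᵁ W) := IsFinite.finite_app (f := f) W hW
  letI a3 : Algebra Γ(Y, W) Y.functionField := (Y.presheaf.germ W _ hηY).hom.toAlgebra
  letI a4 : Algebra Γ(X, f ⁻¹ᵁ W) X.functionField := (X.presheaf.germ (f ⁻¹ᵁ W) _ hηX).hom.toAlgebra
  letI a5 : Algebra Γ(Y, W) X.functionField :=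
    ((algebraMap Γ(X, f ⁻¹ᵁ W) X.functionField).comp (algebraMap Γ(Y, W) Γ(X, f ⁻¹ᵁ W))).toAlgebra
  haveI : IsScalarTower Γ(Y, W) Γ(X, f ⁻¹ᵁ W) X.functionField := IsScalarTower.of_algebraMap_eq' rfl
  haveI : IsScalarTower Γ(Y, W) Y.functionField X.functionField := IsScalarTower.of_algebraMap_eq fun r => by
    have h1 := TopCat.Presheaf.germ_stalkSpecializes Y.presheaf hηY (specializes_of_eq e)
    have h2 := Scheme.Hom.germ_stalkMap f W (genericPoint X) (show f (genericPoint X) ∈ W by rw [e]; exact hηY)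
    show (X.presheaf.germ (f ⁻¹ᵁ W) _ hηX) ((f.app W) r) =
      (Y.presheaf.stalkSpecializes (specializes_of_eq e) ≫ f.stalkMap (genericPoint X)) (Y.presheaf.germ W _ hηY r)
    rw [← CommRingCat.comp_apply, ← CommRingCat.comp_apply, reassoc_of% h1, h2]
  haveI : IsFractionRing Γ(Y, W) Y.functionField := functionField_isFractionRing_of_isAffineOpen Y W hW
  haveI : IsFractionRing Γ(X, f ⁻¹ᵁ W) X.functionField :=
    functionField_isFractionRing_of_isAffineOpen X (f ⁻¹ᵁ W) hV
  haveI : FaithfulSMul Γ(Y, W) Γ(X, f ⁻¹ᵁ W) :=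
    (faithfulSMul_iff_algebraMap_injective _ _).mpr (app_injective f e hηY)
  haveI : Algebra.IsIntegral Γ(Y, W) Γ(X, f ⁻¹ᵁ W) := Algebra.IsIntegral.of_finite _ _
  haveI : IsLocalization (Algebra.algebraMapSubmonoid Γ(X, f ⁻¹ᵁ W) Γ(Y, W)⁰) X.functionField :=
    inferInstance
  exact Module.Finite.of_isLocalization Γ(Y, W) Γ(X, f ⁻¹ᵁ W) Γ(Y, W)⁰

/-- The ramification indices at points over a closed point add up to at most the degree. -/
theorem sum_ramificationIdx_le (hdX : topologicalKrullDim X ≤ 1) (hdY : topologicalKrullDim Y ≤ 1)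
    (hnX : ∀ x : X, IsIntegrallyClosed (X.presheaf.stalk x)) (hnY : ∀ y : Y, IsIntegrallyClosed (Y.presheaf.stalk y))
    (e : f (genericPoint X) = genericPoint Y) {y : Y} (hy : IsClosed ({y} : Set Y)) (hy' : y ≠ genericPoint Y)
    (T : Finset X) (hT : ∀ x ∈ T, f x = y ∧ IsClosed ({x} : Set X)) :
    letI := ((Y.presheaf.stalkSpecializes (specializes_of_eq e) ≫ f.stalkMap (genericPoint X)).hom).toAlgebra
    ∑ x ∈ T, (letI := (f.stalkMap x).hom.toAlgebra
      Ideal.ramificationIdx (IsLocalRing.maximalIdeal (X.presheaf.stalk x)) (Y.presheaf.stalk (f x))) ≤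
        Module.finrank Y.functionField X.functionField := by
  classical
  letI := ((Y.presheaf.stalkSpecializes (specializes_of_eq e) ≫ f.stalkMap (genericPoint X)).hom).toAlgebra
  haveI : FiniteDimensional Y.functionField X.functionField := finite_functionField f e
  obtain ⟨_, ⟨W, hW, rfl⟩, hyW, -⟩ :=
    Y.isBasis_affineOpens.exists_subset_of_mem_open (Set.mem_univ y) isOpen_univ
  have hηY : genericPoint Y ∈ W := ((genericPoint_spec Y).specializes (Set.mem_univ y)).mem_open W.2 hyW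
  have hηX : genericPoint X ∈ f ⁻¹ᵁ W := show f (genericPoint X) ∈ W by rw [e]; exact hηY
  haveI : Nonempty W := ⟨⟨_, hηY⟩⟩
  haveI : Nonempty (f ⁻¹ᵁ W) := ⟨⟨_, hηX⟩⟩
  have hV := hW.preimage f
  haveI := isDedekindDomain_sections hdY hnY hW
  haveI := isDedekindDomain_sections hdX hnX hV
  letI a2 : Algebra Γ(Y, W) Γ(X, f ⁻¹ᵁ W) := (f.app W).hom.toAlgebra
  haveI : Module.Finite Γ(Y, W) Γ(X, f ⁻¹ᵁ W) := IsFinite.finite_app (f := f) W hW
  letI a3 : Algebra Γ(Y, W) Y.functionField := (Y.presheaf.germ W _ hηY).hom.toAlgebra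
  letI a4 : Algebra Γ(X, f ⁻¹ᵁ W) X.functionField := (X.presheaf.germ (f ⁻¹ᵁ W) _ hηX).hom.toAlgebra
  letI a5 : Algebra Γ(Y, W) X.functionField :=
    ((algebraMap Γ(X, f ⁻¹ᵁ W) X.functionField).comp (algebraMap Γ(Y, W) Γ(X, f ⁻¹ᵁ W))).toAlgebra
  haveI : IsScalarTower Γ(Y, W) Γ(X, f ⁻¹ᵁ W) X.functionField := IsScalarTower.of_algebraMap_eq' rfl
  haveI : IsScalarTower Γ(Y, W) Y.functionField X.functionField := IsScalarTower.of_algebraMap_eq fun r => by
    have h1 := TopCat.Presheaf.germ_stalkSpecializes Y.presheaf hηY (specializes_of_eq e)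
    have h2 := Scheme.Hom.germ_stalkMap f W (genericPoint X) (show f (genericPoint X) ∈ W by rw [e]; exact hηY)
    show (X.presheaf.germ (f ⁻¹ᵁ W) _ hηX) ((f.app W) r) =
      (Y.presheaf.stalkSpecializes (specializes_of_eq e) ≫ f.stalkMap (genericPoint X)) (Y.presheaf.germ W _ hηY r)
    rw [← CommRingCat.comp_apply, ← CommRingCat.comp_apply, reassoc_of% h1, h2]
  haveI : IsFractionRing Γ(Y, W) Y.functionField := functionField_isFractionRing_of_isAffineOpen Y W hW
  haveI : IsFractionRing Γ(X, f ⁻¹ᵁ W) X.functionField :=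
    functionField_isFractionRing_of_isAffineOpen X (f ⁻¹ᵁ W) hV
  have hinj : Function.Injective (algebraMap Γ(Y, W) Γ(X, f ⁻¹ᵁ W)) := app_injective f e hηY
  haveI : FaithfulSMul Γ(Y, W) Γ(X, f ⁻¹ᵁ W) := (faithfulSMul_iff_algebraMap_injective _ _).mpr hinj
  haveI : Algebra.IsIntegral Γ(Y, W) Γ(X, f ⁻¹ᵁ W) := Algebra.IsIntegral.of_finite _ _
  set p := pr hW hyW
  haveI hp : p.IsMaximal := hW.primeIdealOf_isMaximal_of_isClosed ⟨y, hyW⟩ hy
  have hp0 : p ≠ ⊥ := by
    intro h0
    have h1 : hW.primeIdealOf ⟨genericPoint Y, hηY⟩ ⤳ hW.primeIdealOf ⟨y, hyW⟩ := by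
      rw [← hW.fromSpec.isOpenEmbedding.isInducing.specializes_iff, hW.fromSpec_primeIdealOf, hW.fromSpec_primeIdealOf]
      exact (genericPoint_spec Y).specializes (Set.mem_univ _)
    have h2 := (PrimeSpectrum.le_iff_specializes _ _).2 h1
    have h3 : hW.primeIdealOf ⟨y, hyW⟩ = hW.primeIdealOf ⟨genericPoint Y, hηY⟩ :=
      PrimeSpectrum.ext (le_antisymm (h0.le.trans bot_le) h2)
    exact hy' ((hW.fromSpec_primeIdealOf ⟨y, hyW⟩).symm.trans
      ((congrArg hW.fromSpec h3).trans (hW.fromSpec_primeIdealOf ⟨genericPoint Y, hηY⟩)))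
  have hmem : ∀ x ∈ T, x ∈ f ⁻¹ᵁ W := fun x hx => show f x ∈ W by rw [(hT x hx).1]; exact hyW
  rw [← Ideal.sum_ramification_inertia (S := Γ(X, f ⁻¹ᵁ W)) Y.functionField X.functionField hp0,
    ← Finset.sum_attach]
  have hmap : p.map (f.app W).hom ≠ ⊥ := fun h => hp0 ((Ideal.map_eq_bot_iff_of_injective hinj).mp h)
  have hpr : ∀ x : {x // x ∈ T}, pr hW (x := f x.1) (hmem _ x.2) = p := fun x => by
    have : ∀ (z : Y) (hz : z ∈ W), z = y → pr hW hz = p := by rintro z hz rfl; rfl
    exact this _ _ (hT _ x.2).1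
  haveI hmax : ∀ x : {x // x ∈ T}, (pr hV (hmem _ x.2)).IsMaximal := fun x =>
    hV.primeIdealOf_isMaximal_of_isClosed ⟨x.1, hmem _ x.2⟩ (hT _ x.2).2
  calc _ ≤ ∑ x ∈ T.attach, Ideal.ramificationIdx' p (pr hV (hmem _ x.2)) *
        Ideal.inertiaDeg' p (pr hV (hmem _ x.2)) := by
        refine Finset.sum_le_sum fun x _ => ?_
        haveI := hmax x
        haveI : (pr hV (hmem _ x.2)).LiesOver p := ⟨((comap_pr f hW hV (hmem _ x.2)).trans (hpr x)).symm⟩
        have hne : pr hV (hmem _ x.2) ≠ ⊥ := ne_bot_of_le_ne_bot hmap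
          (Ideal.map_le_iff_le_comap.2 ((comap_pr f hW hV (hmem _ x.2)).trans (hpr x)).ge)
        have h1 := ramificationIdx_eq_count f hW hV (hmem _ x.2) (by rw [hpr x]; exact hmap)
        have h2 := Ideal.IsDedekindDomain.ramificationIdx'_eq_normalizedFactors_count (p := p)
          hmap (inferInstance : (pr hV (hmem _ x.2)).IsPrime) hne
        simp only [hpr x] at h1
        refine le_trans (le_of_eq (h1.trans h2.symm)) (Nat.le_mul_of_pos_right _ ?_)
        exact Ideal.inertiaDeg'_pos p _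
    _ = ∑ P ∈ T.attach.image (fun x => pr hV (hmem _ x.2)),
          Ideal.ramificationIdx' p P * Ideal.inertiaDeg' p P := by
        rw [Finset.sum_image]
        intro x _ x' _ h
        refine Subtype.ext ?_
        have h' : hV.primeIdealOf ⟨x.1, hmem _ x.2⟩ = hV.primeIdealOf ⟨x'.1, hmem _ x'.2⟩ := PrimeSpectrum.ext h
        exact (hV.fromSpec_primeIdealOf ⟨x.1, hmem _ x.2⟩).symm.trans
          ((congrArg hV.fromSpec h').trans (hV.fromSpec_primeIdealOf ⟨x'.1, hmem _ x'.2⟩))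
    _ ≤ _ := by
        refine Finset.sum_le_sum_of_subset fun P hP => ?_
        obtain ⟨x, -, rfl⟩ := Finset.mem_image.mp hP
        haveI := hmax x
        exact (IsDedekindDomain.mem_primesOverFinset_iff hp0 _).mpr
          ⟨inferInstance, ⟨((comap_pr f hW hV (hmem _ x.2)).trans (hpr x)).symm⟩⟩

end Groth.Agent.TwoBranch
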