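import Groth.Agent.HurwitzAlg.Chart
import Groth.Prelude.Def_CurvBase
import Mathlib

/-!
# Points and stalks for maps of curves
-/

set_option autoImplicit false
set_option backward.isDefEq.respectTransparency false
set_option backward.isDefEq.respectTransparency.types false
set_option linter.style.haveILetI false

universe u

open CategoryTheory AlgebraicGeometry TopologicalSpace

namespace Groth.Agent.TwoBranch

theorem finite_of_forall_isClosed {α : Type u} [TopologicalSpace α] [NoetherianSpace α] [QuasiSober α] {Z : Set α}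
    (hZ : IsClosed Z) (h : ∀ x ∈ Z, IsClosed ({x} : Set α)) : Z.Finite := by
  obtain ⟨S, hS, hS1, hS2, he⟩ := NoetherianSpace.exists_finite_set_isClosed_irreducible hZ
  rw [he, Set.sUnion_eq_biUnion]
  refine hS.biUnion fun t ht => ?_
  obtain ⟨x, hx⟩ := QuasiSober.sober (hS2 t ht) (hS1 t ht)
  have hxt : x ∈ t := hx.mem
  have hxZ : x ∈ Z := he ▸ Set.mem_sUnion_of_mem hxt ht
  rw [← hx.def, (h x hxZ).closure_eq]
  exact Set.finite_singleton x

theorem isDiscrete_of_finite {α : Type u} [TopologicalSpace α] {Z : Set α}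
    (hZ : Z.Finite) (h : ∀ x ∈ Z, IsClosed ({x} : Set α)) : IsDiscrete Z := by
  haveI : Finite Z := hZ.to_subtype
  haveI : T1Space Z := ⟨fun z => by
    have := (h z.1 z.2).preimage (continuous_subtype_val (p := fun a => a ∈ Z))
    convert this using 1
    ext w
    simp [Subtype.ext_iff]⟩
  exact ⟨inferInstance⟩

variable {X Y : Scheme.{u}} (f : X ⟶ Y)

theorem ramificationIdx_pos (x : X) [IsDomain (X.presheaf.stalk x)] [IsDiscreteValuationRing (X.presheaf.stalk x)]
    [IsDomain (Y.presheaf.stalk (f x))] [IsDiscreteValuationRing (Y.presheaf.stalk (f x))]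
    (hinj : Function.Injective (f.stalkMap x).hom) :
    letI := (f.stalkMap x).hom.toAlgebra
    0 < Ideal.ramificationIdx (IsLocalRing.maximalIdeal (X.presheaf.stalk x)) (Y.presheaf.stalk (f x)) ∧ True := by
  letI := (f.stalkMap x).hom.toAlgebra
  haveI : IsLocalHom (algebraMap (Y.presheaf.stalk (f x)) (X.presheaf.stalk x)) :=
    inferInstanceAs (IsLocalHom (f.stalkMap x).hom)
  refine ⟨?_, trivial⟩
  set mA := IsLocalRing.maximalIdeal (Y.presheaf.stalk (f x))
  set mB := IsLocalRing.maximalIdeal (X.presheaf.stalk x)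
  haveI : mB.LiesOver mA :=
    ⟨(IsLocalRing.maximalIdeal_comap (algebraMap (Y.presheaf.stalk (f x)) (X.presheaf.stalk x))).symm⟩
  have hne : mA.map (algebraMap (Y.presheaf.stalk (f x)) (X.presheaf.stalk x)) ≠ ⊥ := fun h =>
    IsDiscreteValuationRing.not_a_field _ ((Ideal.map_eq_bot_iff_of_injective hinj).mp h)
  rw [← Ideal.ramificationIdx'_eq_ramificationIdx' mA mB hne]
  exact Nat.pos_of_ne_zero (Ideal.IsDedekindDomain.ramificationIdx'_ne_zero hne inferInstance
    (Ideal.map_le_iff_le_comap.mpr
      (IsLocalRing.maximalIdeal_comap (algebraMap (Y.presheaf.stalk (f x)) (X.presheaf.stalk x))).ge))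

theorem ramificationIdx_eq_one [LocallyOfFiniteType f] (W : Y.Opens) [Etale (f ∣_ W)] {x : X} (hx : f x ∈ W) :
    letI := (f.stalkMap x).hom.toAlgebra
    Ideal.ramificationIdx (IsLocalRing.maximalIdeal (X.presheaf.stalk x)) (Y.presheaf.stalk (f x)) = 1 := by
  algebraize [(f.stalkMap x).hom]
  have hunr : (f.stalkMap x).hom.FormallyUnramified :=
    (RingHom.FormallyUnramified.respectsIso.arrow_mk_iso_iff (morphismRestrictStalkMap f W ⟨x, hx⟩)).mp
      (FormallyUnramified.stalkMap (f ∣_ W) ⟨x, hx⟩)
  haveI : Algebra.FormallyUnramified (Y.presheaf.stalk (f x)) (X.presheaf.stalk x) := by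
    rw [← RingHom.formallyUnramified_algebraMap, RingHom.algebraMap_toAlgebra]
    exact hunr
  haveI : Algebra.EssFiniteType (Y.presheaf.stalk (f x)) (X.presheaf.stalk x) := by
    rw [← RingHom.essFiniteType_algebraMap, RingHom.algebraMap_toAlgebra]
    exact LocallyOfFiniteType.stalkMap f x
  haveI : Algebra.IsUnramifiedAt (Y.presheaf.stalk (f x)) (IsLocalRing.maximalIdeal (X.presheaf.stalk x)) :=
    Algebra.FormallyUnramified.comp _ (X.presheaf.stalk x) _
  exact Ideal.ramificationIdx_eq_one _ _

attribute [local instance] Curv2.resAlgebra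

variable {k : Type u} [Field k] [IsAlgClosed k] [X.Over (Spec (CommRingCat.of k))]
  [Y.Over (Spec (CommRingCat.of k))]

theorem bijective_resMap [LocallyOfFiniteType (X ↘ Spec (CommRingCat.of k))] {x : X} (hx : IsClosed ({x} : Set X)) :
    Function.Bijective (Curv2.resMap k X x) := by
  obtain ⟨_, ⟨V, hV, rfl⟩, hxV, -⟩ :=
    X.isBasis_affineOpens.exists_subset_of_mem_open (Set.mem_univ x) isOpen_univ
  letI := Curv2.resAlgebra k X x
  haveI : Module.Finite k (X.residueField x) := HurwitzAlg.finite_residueField (k := k) hV hxV hx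
  exact IsAlgClosed.algebraMap_bijective_of_isIntegral (k := k) (K := X.residueField x)

theorem finrank_residueField_eq_one [LocallyOfFiniteType (X ↘ Spec (CommRingCat.of k))] {x : X}
    (hx : IsClosed ({x} : Set X)) : Module.finrank k (X.residueField x) = 1 := by
  obtain ⟨_, ⟨V, hV, rfl⟩, hxV, -⟩ :=
    X.isBasis_affineOpens.exists_subset_of_mem_open (Set.mem_univ x) isOpen_univ
  haveI : Module.Finite k (X.residueField x) := HurwitzAlg.finite_residueField (k := k) hV hxV hx
  refine finrank_eq_one (1 : X.residueField x) one_ne_zero fun w => ?_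
  obtain ⟨c, hc⟩ := (IsAlgClosed.algebraMap_bijective_of_isIntegral (k := k) (K := X.residueField x)).2 w
  exact ⟨c, by rw [← hc, Algebra.smul_def, mul_one]⟩

theorem isSeparable_residue_of_closed [LocallyOfFiniteType (X ↘ Spec (CommRingCat.of k))]
    (hf : f ≫ (Y ↘ Spec (CommRingCat.of k)) = X ↘ Spec (CommRingCat.of k)) {x : X} (hx : IsClosed ({x} : Set X)) :
    letI := (f.residueFieldMap x).hom.toAlgebra
    Algebra.IsSeparable (Y.residueField (f x)) (X.residueField x) := by
  letI := (f.residueFieldMap x).hom.toAlgebra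
  have hcomm : ∀ c : k, (f.residueFieldMap x).hom (Curv2.resMap k Y (f x) c) = Curv2.resMap k X x c := fun c => by
    show f.residueFieldMap x (Y.residue (f x) (Y.presheaf.germ ⊤ (f x) trivial (Coh.toGlobal (Y ↘ Spec (CommRingCat.of k)) c))) =
      X.residue x (X.presheaf.germ ⊤ x trivial (Coh.toGlobal (X ↘ Spec (CommRingCat.of k)) c))
    rw [← CommRingCat.comp_apply, Scheme.residue_residueFieldMap, CommRingCat.comp_apply,
      Scheme.Hom.germ_stalkMap_apply]
    simp only [← hf]
    rfl
  have hsurj : Function.Surjective (algebraMap (Y.residueField (f x)) (X.residueField x)) := fun z => by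
    obtain ⟨c, rfl⟩ := (bijective_resMap (k := k) hx).2 z
    exact ⟨_, hcomm c⟩
  exact ⟨fun z => by
    obtain ⟨a, rfl⟩ := hsurj z
    exact isSeparable_algebraMap a⟩

end Groth.Agent.TwoBranch
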